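import Groth.Agent.Lib.AVPRank22.Field
import Groth.Agent.Lib.AVDegree22.MulRank
import Groth.Agent.Lib.LieS.Basic

/-!
# At most `p ^ g` points are killed by `p`
-/

universe u

open CategoryTheory Limits AlgebraicGeometry MonoidalCategory CartesianMonoidalCategory MonObj TopologicalSpace
open scoped GrpObj

set_option linter.style.haveILetI false
set_option backward.isDefEq.respectTransparency false

namespace Groth.Agent.AVPRank22

open AVDegree22 (fieldMap kHom fieldDeg)

variable {k : Type u} [Field k]

section Generic

variable (X : Over (Spec (CommRingCat.of k))) [IsIntegral X.left]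

/-- The generic point as a field valued point. -/
noncomputable def gen : Spec X.left.functionField ⟶ X.left := X.left.fromSpecStalk (genericPoint X.left)

instance : Mono (gen X) := inferInstanceAs (Mono (X.left.fromSpecStalk _))

instance : IsDominant (gen X) := by
  refine ⟨fun x => ?_⟩
  refine closure_mono (s := {genericPoint X.left}) ?_ ?_
  · exact Set.singleton_subset_iff.2 ⟨IsLocalRing.closedPoint _, Scheme.fromSpecStalk_closedPoint⟩
  · rw [(genericPoint_spec X.left).def]
    trivial

theorem gen_comp_hom : gen X ≫ X.hom = Spec.map (CommRingCat.ofHom (kHom X)) := by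
  have h : X.hom = X.left.toSpecΓ ≫ Spec.map X.hom.appTop ≫ Spec.map (Scheme.ΓSpecIso (CommRingCat.of k)).inv := by
    rw [← Scheme.toSpecΓ_naturality_assoc, toSpecΓ_SpecMap_ΓSpecIso_inv, Category.comp_id]
  conv_lhs => rw [h]
  rw [gen, Scheme.fromSpecStalk_toSpecΓ_assoc, ← Spec.map_comp, ← Spec.map_comp]
  rfl

variable {X} {Y : Over (Spec (CommRingCat.of k))} [IsIntegral Y.left] (f : Y ⟶ X) [IsDominant f.left]

theorem gen_comp : gen Y ≫ f.left = Spec.map (CommRingCat.ofHom (fieldMap f).toRingHom) ≫ gen X := by
  show _ = Spec.map (X.left.presheaf.stalkSpecializes _ ≫ f.left.stalkMap (genericPoint Y.left)) ≫ _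
  rw [Spec.map_comp, Category.assoc, gen, gen, Scheme.SpecMap_stalkSpecializes_fromSpecStalk,
    Scheme.SpecMap_stalkMap_fromSpecStalk]

theorem fieldMap_injective_left {g : Y ⟶ X} [IsDominant g.left] [IsSeparated X.hom]
    (h : (fieldMap f).toRingHom = (fieldMap g).toRingHom) : f = g := by
  ext1
  refine ext_of_isDominant_of_isSeparated X.hom ((Over.w f).trans (Over.w g).symm) (gen Y) ?_
  rw [gen_comp, gen_comp, h]

theorem deg_fieldMap : deg (fieldMap f).toRingHom = fieldDeg f := by
  let φ := fieldMap f
  letI := φ.toRingHom.toAlgebra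
  show Module.finrank X.left.functionField Y.left.functionField = Module.finrank φ.fieldRange Y.left.functionField
  exact Algebra.finrank_eq_of_equiv_equiv (RingEquiv.ofBijective φ.toRingHom.rangeRestrictField
    ⟨fun a b h => φ.injective (congrArg Subtype.val h), φ.toRingHom.rangeRestrictField_bijective.2⟩)
    (RingEquiv.refl _) rfl

end Generic

section Tangent

open LieSL

variable {A : Over (Spec (CommRingCat.of k))} [GrpObj A] [IsCommMonObj A] [IsIntegral A.left]

/-- The point with values in dual numbers given by a derivation. -/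
noncomputable def dualHom (D : Derivation k A.left.functionField A.left.functionField) :
    A.left.functionField →+* TrivSqZeroExt A.left.functionField A.left.functionField where
  toFun x := TrivSqZeroExt.inl x + TrivSqZeroExt.inr (D x)
  map_one' := TrivSqZeroExt.ext (by simp) (by simp)
  map_zero' := TrivSqZeroExt.ext (by simp) (by simp)
  map_add' x y := TrivSqZeroExt.ext (by simp) (by simp)
  map_mul' x y := TrivSqZeroExt.ext (by simp) (by simp [mul_comm])

/-- Derivations vanish on functions pulled back along multiplication by the characteristic. -/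
theorem derivation_fieldMap_pow (p : ℕ) [CharP k p] [IsDominant (𝟙 A ^ p).left]
    (D : Derivation k A.left.functionField A.left.functionField) (x : A.left.functionField) :
    D (fieldMap (𝟙 A ^ p) x) = 0 := by
  let f : Spec (CommRingCat.of ↥(A.left.functionField)) ⟶ Spec (CommRingCat.of k) := gen A ≫ A.hom
  have hθ : Spec.map (CommRingCat.ofHom (dualHom D)) ≫ gen A ≫ A.hom =
      Spec.map (CommRingCat.ofHom (algebraMap ↥(A.left.functionField) (TrivSqZeroExt ↥(A.left.functionField) ↥(A.left.functionField)))) ≫ gen A ≫ A.hom := by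
    rw [gen_comp_hom, ← Spec.map_comp, ← Spec.map_comp, ← CommRingCat.ofHom_comp, ← CommRingCat.ofHom_comp]
    congr 2
    refine RingHom.ext fun c => TrivSqZeroExt.ext (by simp [dualHom, TrivSqZeroExt.algebraMap_eq_inl']) ?_
    have : D (kHom A c) = 0 := D.map_algebraMap c
    simp [dualHom, TrivSqZeroExt.algebraMap_eq_inl', this]
  let P : sqz f ↥(A.left.functionField) ⟶ A := Over.homMk (Spec.map (CommRingCat.ofHom (dualHom D)) ≫ gen A)
    (by rw [Category.assoc]; exact hθ)
  let P₀ : sqz f ↥(A.left.functionField) ⟶ A := sqzMap f (0 : ↥(A.left.functionField) →ₗ[↥(A.left.functionField)] ↥(A.left.functionField)) ≫ P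
  have hP₀ : sqzMap f (0 : ↥(A.left.functionField) →ₗ[↥(A.left.functionField)] ↥(A.left.functionField)) ≫ P₀ = P₀ := by
    rw [sqzMap_comp_assoc, LinearMap.comp_zero]
  have hker : IsKer f A (P * P₀⁻¹) := by
    show sqzMap f (0 : ↥(A.left.functionField) →ₗ[↥(A.left.functionField)] ↥(A.left.functionField)) ≫ (P * P₀⁻¹) = 1
    rw [MonObj.comp_mul, GrpObj.comp_inv, hP₀, mul_inv_cancel]
  have hpow : ∀ n : ℕ, sqzMap f ((n : ↥(A.left.functionField)) • LinearMap.id : ↥(A.left.functionField) →ₗ[↥(A.left.functionField)] ↥(A.left.functionField)) ≫ (P * P₀⁻¹) = (P * P₀⁻¹) ^ n := by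
    intro n
    induction n with
    | zero => rw [Nat.cast_zero, zero_smul, pow_zero]; exact hker
    | succ n ih =>
      rw [Nat.cast_succ, ker_smul_add f hker, ih, _root_.one_smul, sqzMap_id, Category.id_comp, pow_succ]
  have hp : (P * P₀⁻¹) ^ p = 1 := by
    rw [← hpow p, show (p : ↥(A.left.functionField)) = 0 by rw [← map_natCast (algebraMap k ↥(A.left.functionField)), CharP.cast_eq_zero, map_zero], zero_smul]
    exact hker
  rw [_root_.mul_pow, inv_pow, mul_inv_eq_one, ← Category.comp_id P, ← Category.comp_id P₀, ← MonObj.comp_pow, ← MonObj.comp_pow] at hp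
  have h := congrArg (fun q : sqz f ↥(A.left.functionField) ⟶ A => q.left) hp
  have hz : ((TrivSqZeroExt.map (0 : ↥(A.left.functionField) →ₗ[↥(A.left.functionField)] ↥(A.left.functionField))).toRingHom).comp (dualHom D) = TrivSqZeroExt.inlHom ↥(A.left.functionField) ↥(A.left.functionField) :=
    RingHom.ext fun y => TrivSqZeroExt.ext (by simp [dualHom]) (by simp [dualHom])
  have h0 : P₀.left = Spec.map (CommRingCat.ofHom (TrivSqZeroExt.inlHom ↥(A.left.functionField) ↥(A.left.functionField))) ≫ gen A := by
    show Spec.map (CommRingCat.ofHom (TrivSqZeroExt.map (0 : ↥(A.left.functionField) →ₗ[↥(A.left.functionField)] ↥(A.left.functionField))).toRingHom) ≫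
      Spec.map (CommRingCat.ofHom (dualHom D)) ≫ gen A = _
    rw [← Category.assoc, ← Spec.map_comp, ← CommRingCat.ofHom_comp, hz]
  simp only [Over.comp_left] at h
  rw [h0, show P.left = Spec.map (CommRingCat.ofHom (dualHom D)) ≫ gen A from rfl, Category.assoc, Category.assoc,
    gen_comp, ← Category.assoc, ← Category.assoc, cancel_mono, ← Spec.map_comp, ← Spec.map_comp,
    Spec.map_inj] at h
  have h1 := congrArg TrivSqZeroExt.snd (RingHom.congr_fun (congrArg CommRingCat.Hom.hom h) x)
  simpa [dualHom] using h1

end Tangent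

section Count

variable [IsAlgClosed k] {A : Over (Spec (CommRingCat.of k))} [GrpObj A] [IsCommMonObj A] [IsProper A.hom]
  [GeometricallyIntegral A.hom] [IsIntegral A.left]

/-- Translation by a point. -/
noncomputable def translate (a : 𝟙_ (Over (Spec (CommRingCat.of k))) ⟶ A) : A ⟶ A := 𝟙 A * (toUnit A ≫ a)

omit [IsAlgClosed k] [IsProper A.hom] [GeometricallyIntegral A.hom] [IsIntegral A.left] in
theorem translate_comp (a b : 𝟙_ (Over (Spec (CommRingCat.of k))) ⟶ A) :
    translate a ≫ translate b = translate (a * b) := by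
  rw [translate, translate, translate, MonObj.comp_mul, Category.comp_id, ← Category.assoc, comp_toUnit,
    _root_.mul_assoc, ← MonObj.comp_mul]

omit [IsAlgClosed k] [IsProper A.hom] [GeometricallyIntegral A.hom] [IsIntegral A.left] in
theorem translate_one : translate (1 : 𝟙_ (Over (Spec (CommRingCat.of k))) ⟶ A) = 𝟙 A := by
  rw [translate, MonObj.comp_one, _root_.mul_one]

omit [IsAlgClosed k] [IsProper A.hom] [GeometricallyIntegral A.hom] in
instance isDominant_translate (a : 𝟙_ (Over (Spec (CommRingCat.of k))) ⟶ A) : IsDominant (translate a).left := by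
  let e : A ≅ A := ⟨translate a, translate a⁻¹, by rw [translate_comp, mul_inv_cancel, translate_one],
    by rw [translate_comp, inv_mul_cancel, translate_one]⟩
  haveI : IsIso (translate a).left := ((Over.forget _).mapIso e).isIso_hom
  infer_instance

/-- The Frobenius of the function field has degree at least `p ^ g`. -/
theorem pow_le_deg_frobenius {p : ℕ} [Fact p.Prime] [CharP k p] [CharP A.left.functionField p] {g : ℕ}
    (hg : topologicalKrullDim A.left = g) (h : 0 < deg (frobenius A.left.functionField p)) :
    p ^ g ≤ deg (frobenius A.left.functionField p) := by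
  classical
  rcases g with _ | m
  · rwa [pow_zero, Nat.one_le_iff_ne_zero, ← Nat.pos_iff_ne_zero]
  obtain ⟨L, hLa, -⟩ := CubeField.exists_isAmple_symmetric A
  obtain ⟨e, a, S, -, -⟩ := AVDegree22.exists_system hg hLa
  let C := S.toCharts hg
  obtain ⟨D, b, hb, -⟩ := C.exists_basis
  let P := MvPolynomial (Fin (m + 1)) k
  let F := FractionRing P
  let K := A.left.functionField
  have hinj : Function.Injective (MvPolynomial.aeval (R := k) C.x : P →ₐ[k] K) := C.indep
  let i : F →+* K := IsFractionRing.lift (g := (MvPolynomial.aeval (R := k) C.x : P →ₐ[k] K).toRingHom) hinj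
  have hi : ∀ q : P, i (algebraMap P F q) = MvPolynomial.aeval C.x q := fun q => IsFractionRing.lift_algebraMap hinj q
  have hipos : 0 < deg i := by
    letI := i.toAlgebra
    haveI : Module.Finite F K := by
      refine ⟨Finset.univ.image b, Submodule.eq_top_iff'.2 fun y => ?_⟩
      obtain ⟨q, Q, hq, hQ⟩ := hb.span y
      have hq' : algebraMap P F q ≠ 0 := (map_ne_zero_iff _ (IsFractionRing.injective P F)).2 hq
      refine (Submodule.smul_mem_iff _ hq').1 ?_
      rw [Algebra.smul_def, RingHom.algebraMap_toAlgebra, hi, hQ]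
      refine Submodule.sum_mem _ fun j _ => ?_
      rw [← hi, ← RingHom.algebraMap_toAlgebra i, ← Algebra.smul_def]
      exact Submodule.smul_mem _ _ (Submodule.subset_span (by simp))
    exact Module.finrank_pos
  haveI : CharP F p := charP_of_injective_ringHom (algebraMap k F).injective p
  have hcomm : (frobenius K p).comp i = i.comp (frobenius F p) := RingHom.ext fun x => (i.map_frobenius p x).symm
  have hmul := congrArg deg hcomm
  rw [deg_comp, deg_comp, mul_comm (deg (frobenius F p))] at hmul
  have he := Nat.eq_of_mul_eq_mul_left hipos hmul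
  rw [he] at h ⊢
  exact pow_le_deg_frobenius_fractionRing p h

/-- At most `p ^ g` rational points are killed by the characteristic `p`. -/
theorem card_le {p : ℕ} [Fact p.Prime] [CharP k p] {g : ℕ} (hg : topologicalKrullDim A.left = g) :
    Nat.card (AbDual.torsPts A p (𝟙_ (Over (Spec (CommRingCat.of k))))) ≤ p ^ g := by
  classical
  have hp : p.Prime := Fact.out
  obtain ⟨hf, hfl, hs⟩ := AVDegree22.isFinite_flat_surjective_pow A hp.pos
  haveI := hf
  haveI := hfl
  haveI := hs
  haveI : IsLocallyNoetherian A.left := LocallyOfFiniteType.isLocallyNoetherian A.hom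
  haveI : IsDominant (𝟙 A ^ p).left := ⟨(𝟙 A ^ p).left.surjective.denseRange⟩
  let K := A.left.functionField
  haveI : CharP K p := charP_of_injective_ringHom (algebraMap k K).injective p
  let φ : K →+* K := (fieldMap (𝟙 A ^ p)).toRingHom
  have hroot : ∀ x : K, ∃ y, y ^ p = φ x := by
    intro x
    by_contra h
    obtain ⟨D, hD⟩ := exists_derivation_ne_zero (k := k) p (x := φ x) (not_exists.1 h)
    exact hD (derivation_fieldMap_pow p D x)
  choose r hr using hroot
  let ψ : K →+* K :=
    { toFun := r
      map_one' := frobenius_inj K p (by simp only [frobenius_def, hr, map_one, _root_.one_pow])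
      map_zero' := frobenius_inj K p (by simp only [frobenius_def, hr, map_zero, zero_pow hp.ne_zero])
      map_add' := fun x y => frobenius_inj K p (by
        rw [map_add (frobenius K p)]; simp only [frobenius_def, hr, map_add])
      map_mul' := fun x y => frobenius_inj K p (by simp only [frobenius_def, _root_.mul_pow, hr, map_mul]) }
  have hφ : φ = (frobenius K p).comp ψ := RingHom.ext fun x => (hr x).symm
  have hdeg : deg φ = p ^ (2 * g) := by
    rw [deg_fieldMap, ← AVDegree22.finrank_genericPoint (𝟙 A ^ p)]
    exact AVDegree22.finrank_pow A hg hp.pos _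
  have hmul : deg ψ * deg (frobenius K p) = p ^ (2 * g) := by rw [← deg_comp, ← hφ, hdeg]
  have hpos : 0 < deg ψ * deg (frobenius K p) := hmul ▸ pow_pos hp.pos _
  have hge := pow_le_deg_frobenius hg (Nat.pos_of_mul_pos_left hpos)
  have hle : deg ψ ≤ p ^ g := Nat.le_of_mul_le_mul_right
    ((Nat.mul_le_mul_left _ hge).trans (by rw [hmul, two_mul, pow_add])) (pow_pos hp.pos g)
  refine le_trans (card_le_deg_of_fixing (φ := ψ) (Nat.pos_of_mul_pos_right hpos)
    (fun a : AbDual.torsPts A p (𝟙_ (Over (Spec (CommRingCat.of k)))) => (fieldMap (translate a.1)).toRingHom)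
    (fun a b h => ?_) fun a => RingHom.ext fun x => frobenius_inj K p ?_) hle
  · have h1 := congrArg (η[A] ≫ ·) (fieldMap_injective_left _ h)
    simp only [translate, MonObj.comp_mul, Category.comp_id, ← Category.assoc, Subsingleton.elim (η[A] ≫ toUnit A) (𝟙 _),
      Category.id_comp] at h1
    exact Subtype.ext (mul_left_cancel h1)
  · show (fieldMap (translate a.1) (r x)) ^ p = r x ^ p
    rw [← map_pow, hr]
    have h : translate a.1 ≫ (𝟙 A ^ p) = 𝟙 A ^ p := by
      rw [TateTors22.comp_pow_id, translate, _root_.mul_pow, ← MonObj.comp_pow, (AbDual.mem_torsPts A a.1).1 a.2,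
        MonObj.comp_one, _root_.mul_one]
    refine RingHom.congr_fun (f := (fieldMap (translate a.1)).toRingHom.comp φ) (g := φ) ?_ x
    have h2 : gen A ≫ (translate a.1 ≫ (𝟙 A ^ p)).left = gen A ≫ (𝟙 A ^ p).left := by rw [h]
    rw [Over.comp_left, ← Category.assoc, gen_comp, Category.assoc, gen_comp, ← Category.assoc, cancel_mono,
      ← Spec.map_comp, Spec.map_inj] at h2
    exact congrArg CommRingCat.Hom.hom h2

end Count

end Groth.Agent.AVPRank22
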