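import Mathlib.FieldTheory.IntermediateField.Adjoin.Basic
import Mathlib.FieldTheory.Perfect
import Mathlib.FieldTheory.Fixed
import Mathlib.RingTheory.AdjoinRoot
import Mathlib.RingTheory.Derivation.Basic
import Mathlib.RingTheory.MvPolynomial.Expand
import Mathlib.LinearAlgebra.FiniteDimensional.Basic
import Mathlib.FieldTheory.KummerPolynomial
import Mathlib.Algebra.CharP.Algebra
import Mathlib.LinearAlgebra.FreeModule.Finite.Matrix

/-!
# Fields of characteristic `p`: derivations and the degree of Frobenius
-/

universe u

open Polynomial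

set_option linter.style.haveILetI false

namespace Groth.Agent.AVPRank22

/-- The degree of a homomorphism of fields. -/
noncomputable def deg {A B : Type*} [Field A] [Field B] (φ : A →+* B) : ℕ :=
  @Module.finrank A B _ _ φ.toAlgebra.toModule

theorem deg_comp {A B C : Type*} [Field A] [Field B] [Field C] (φ : A →+* B) (ψ : B →+* C) :
    deg (ψ.comp φ) = deg φ * deg ψ := by
  letI := φ.toAlgebra
  letI := ψ.toAlgebra
  letI := (ψ.comp φ).toAlgebra
  haveI : IsScalarTower A B C := IsScalarTower.of_algebraMap_eq' rfl
  exact (Module.finrank_mul_finrank A B C).symm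

theorem card_le_deg {A B : Type*} [Field A] [Field B] {φ : A →+* B} (hφ : 0 < deg φ)
    {J : Type*} [Fintype J] (v : J → B)
    (hv : ∀ c : J → A, ∑ j, φ (c j) * v j = 0 → ∀ j, c j = 0) : Fintype.card J ≤ deg φ := by
  letI := φ.toAlgebra
  haveI : FiniteDimensional A B := FiniteDimensional.of_finrank_pos hφ
  exact (Fintype.linearIndependent_iff.2 fun c hc j =>
    hv c (by simpa [Algebra.smul_def, RingHom.algebraMap_toAlgebra] using hc) j).fintype_card_le_finrank

/-- Automorphisms fixing the image of a field are at most as many as the degree. -/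
theorem card_le_deg_of_fixing {A B : Type*} [Field A] [Field B] {φ : A →+* B} (hφ : 0 < deg φ)
    {J : Type*} (σ : J → (B →+* B)) (hσ : Function.Injective σ) (hfix : ∀ j, (σ j).comp φ = φ) :
    Nat.card J ≤ deg φ := by
  letI := φ.toAlgebra
  haveI : FiniteDimensional A B := FiniteDimensional.of_finrank_pos hφ
  let τ : J → (B →ₐ[A] B) := fun j => { σ j with commutes' := fun a => RingHom.congr_fun (hfix j) a }
  have hτ : Function.Injective τ := fun a b h => hσ (RingHom.ext fun x => AlgHom.congr_fun h x)
  exact (Nat.card_le_card_of_injective τ hτ).trans (card_algHom_le_finrank A B B)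

variable {k K : Type*} [Field k] [Field K] [Algebra k K] (p : ℕ) [Fact p.Prime] [CharP k p] [CharP K p]

/-- Outside the `p`th powers some derivation does not vanish. -/
theorem exists_derivation_ne_zero [PerfectRing k p] {x : K} (hx : ∀ y, y ^ p ≠ x) :
    ∃ D : Derivation k K K, D x ≠ 0 := by
  classical
  have hp : p.Prime := Fact.out
  let S : Set (IntermediateField k K) := {F | (∀ y : K, y ^ p ∈ F) ∧ x ∉ F}
  let F₀ : IntermediateField k K :=
    { (frobenius K p).fieldRange with
      algebraMap_mem' := fun c => by
        obtain ⟨d, rfl⟩ := surjective_frobenius k p c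
        exact ⟨algebraMap k K d, ((algebraMap k K).map_frobenius p d).symm⟩ }
  have hF₀ : F₀ ∈ S := ⟨fun y => ⟨y, rfl⟩, fun ⟨y, hy⟩ => hx y hy⟩
  obtain ⟨F, -, ⟨hFp, hFx⟩, hmax⟩ := zorn_le_nonempty₀ S (fun c hc hch y hy => by
    haveI : Nonempty c := ⟨⟨y, hy⟩⟩
    have hd : Directed (· ≤ ·) fun F : c => (F : IntermediateField k K) := hch.directed
    refine ⟨⨆ F : c, (F : IntermediateField k K), ⟨fun z => ?_, fun h => ?_⟩, fun z hz => le_iSup_of_le ⟨z, hz⟩ le_rfl⟩
    · exact le_iSup (fun F : c => (F : IntermediateField k K)) ⟨y, hy⟩ ((hc hy).1 z)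
    · rw [← SetLike.mem_coe, IntermediateField.coe_iSup_of_directed hd, Set.mem_iUnion] at h
      obtain ⟨G, hG⟩ := h
      exact (hc G.2).2 hG) F₀ hF₀
  let a : F := ⟨x ^ p, hFp x⟩
  let f : F[X] := X ^ p - C a
  have hf : Irreducible f := X_pow_sub_C_irreducible_of_prime hp fun b hb => hFx (by
    have : (b : K) ^ p = x ^ p := congrArg Subtype.val hb
    rw [← frobenius_inj K p this]
    exact b.2)
  have hfx : aeval x f = 0 := by simp [f, a]
  haveI : CharP F p := charP_of_injective_ringHom (algebraMap k F).injective p
  have hf' : derivative f = 0 := by simp [f, derivative_X_pow]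
  have hgen : ∀ y : K, ∃ P : F[X], aeval x P = y := by
    intro y
    have hint : IsIntegral F x := ⟨f, monic_X_pow_sub_C a hp.ne_zero, hfx⟩
    suffices y ∈ IntermediateField.adjoin F {x} by
      rw [← IntermediateField.mem_toSubalgebra,
        IntermediateField.adjoin_simple_toSubalgebra_of_isAlgebraic hint.isAlgebraic,
        Algebra.adjoin_singleton_eq_range_aeval] at this
      exact this
    by_cases hy : y ∈ F
    · exact IntermediateField.algebraMap_mem _ (⟨y, hy⟩ : F)
    let G := IntermediateField.restrictScalars k (IntermediateField.adjoin F {y})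
    have hFG : F ≤ G := fun z hz => IntermediateField.algebraMap_mem _ (⟨z, hz⟩ : F)
    have hyG : y ∈ G := IntermediateField.mem_adjoin_simple_self F y
    have hxG : x ∈ G := by
      by_contra h
      exact hy (hmax ⟨fun z => hFG (hFp z), h⟩ hFG hyG)
    have hinty : IsIntegral F y := ⟨X ^ p - C ⟨y ^ p, hFp y⟩, monic_X_pow_sub_C _ hp.ne_zero, by simp⟩
    have hdeg : ∀ z : K, z ∉ F → IsIntegral F z →
        Module.finrank F (IntermediateField.adjoin F {z}) = p := fun z hz hzint => by
      rw [IntermediateField.adjoin.finrank hzint]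
      have h1 : Irreducible (X ^ p - C (⟨z ^ p, hFp z⟩ : F)) := X_pow_sub_C_irreducible_of_prime hp fun b hb => hz (by
        have : (b : K) ^ p = z ^ p := congrArg Subtype.val hb
        rw [← frobenius_inj K p this]
        exact b.2)
      rw [← minpoly.eq_of_irreducible_of_monic h1 (by simp) (monic_X_pow_sub_C _ hp.ne_zero),
        natDegree_X_pow_sub_C]
    haveI := IntermediateField.adjoin.finiteDimensional hinty
    have he : IntermediateField.adjoin F {x} = IntermediateField.adjoin F {y} :=
      IntermediateField.eq_of_le_of_finrank_eq (IntermediateField.adjoin_simple_le_iff.2 hxG)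
        (by rw [hdeg x hFx hint, hdeg y hy hinty])
    rw [he]
    exact IntermediateField.mem_adjoin_simple_self F y
  have hwd : ∀ P : F[X], aeval x P = 0 → aeval x (derivative P) = 0 := fun P hP => by
    have hmin : f = minpoly F x := minpoly.eq_of_irreducible_of_monic hf hfx (monic_X_pow_sub_C a hp.ne_zero)
    obtain ⟨Q, rfl⟩ : f ∣ P := hmin ▸ minpoly.dvd F x hP
    rw [derivative_mul, hf', zero_mul, zero_add, map_mul, hfx, zero_mul]
  choose P hP using hgen
  have hD : ∀ Q : F[X], aeval x (derivative (P (aeval x Q))) = aeval x (derivative Q) := fun Q => by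
    rw [← sub_eq_zero, ← map_sub, ← derivative_sub]
    exact hwd _ (by rw [map_sub, hP, sub_self])
  let L : K →ₗ[k] K :=
    { toFun := fun y => aeval x (derivative (P y))
      map_add' := fun y z => by
        rw [show y + z = aeval x (P y + P z) by rw [map_add, hP, hP], hD, derivative_add, map_add]
      map_smul' := fun c y => by
        rw [show c • y = aeval x (C (algebraMap k F c) * P y) by
          rw [map_mul, aeval_C, hP, Algebra.smul_def]; rfl, hD, derivative_C_mul, map_mul, aeval_C,
          RingHom.id_apply, Algebra.smul_def]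
        rfl }
  refine ⟨Derivation.mk' L fun y z => ?_, ?_⟩
  · show aeval x (derivative (P (y * z))) = y • aeval x (derivative (P z)) + z • aeval x (derivative (P y))
    rw [show y * z = aeval x (P y * P z) by rw [map_mul, hP, hP], hD, derivative_mul, map_add, map_mul, map_mul,
      hP, hP, smul_eq_mul, smul_eq_mul]
    ring
  · show aeval x (derivative (P x)) ≠ 0
    conv => lhs; arg 2; arg 2; arg 1; rw [← aeval_X (R := F) x]
    rw [hD, derivative_X, map_one]
    exact one_ne_zero

/-- The monomials of small exponents are independent over `p`th powers in a rational function field. -/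
theorem pow_le_deg_frobenius_fractionRing {g : ℕ}
    [CharP (FractionRing (MvPolynomial (Fin g) k)) p]
    (h : 0 < deg (frobenius (FractionRing (MvPolynomial (Fin g) k)) p)) :
    p ^ g ≤ deg (frobenius (FractionRing (MvPolynomial (Fin g) k)) p) := by
  classical
  have hp : p.Prime := Fact.out
  let F := FractionRing (MvPolynomial (Fin g) k)
  let ι' := algebraMap (MvPolynomial (Fin g) k) F
  let ev : (Fin g → Fin p) → (Fin g →₀ ℕ) := fun e => Finsupp.equivFunOnFinite.symm fun i => (e i : ℕ)
  have hev : ∀ e i, ev e i = (e i : ℕ) := fun _ _ => rfl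
  have h1 := card_le_deg h (fun e => ι' (MvPolynomial.monomial (ev e) 1)) fun c hc e => by
    obtain ⟨d, hd⟩ := IsLocalization.exist_integer_multiples (nonZeroDivisors (MvPolynomial (Fin g) k))
      (Finset.univ : Finset (Fin g → Fin p)) c
    choose a ha using fun e => hd e (Finset.mem_univ e)
    have hd0 : ι' (d : MvPolynomial (Fin g) k) ≠ 0 :=
      (map_ne_zero_iff _ (IsFractionRing.injective (MvPolynomial (Fin g) k) F)).2 (nonZeroDivisors.ne_zero d.2)
    have ha' : ∀ e, ι' (a e) = ι' d * c e := fun e => (ha e).trans (Algebra.smul_def _ _)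
    have h2 : ∑ e, a e ^ p * MvPolynomial.monomial (ev e) 1 = 0 := by
      apply IsFractionRing.injective (MvPolynomial (Fin g) k) F
      rw [map_sum, map_zero]
      have h3 : ∀ e, ι' (a e ^ p * MvPolynomial.monomial (ev e) 1) =
          ι' d ^ p * (frobenius F p (c e) * ι' (MvPolynomial.monomial (ev e) 1)) := fun e => by
        rw [map_mul, map_pow, ha', mul_pow, frobenius_def, mul_assoc]
      rw [Finset.sum_congr rfl fun e _ => h3 e, ← Finset.mul_sum, hc, mul_zero]
    suffices a e = 0 by
      have h4 := ha' e
      rw [this, map_zero, eq_comm, mul_eq_zero] at h4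
      exact h4.resolve_left hd0
    refine MvPolynomial.ext _ _ fun u => ?_
    have h5 := congrArg (MvPolynomial.coeff (p • u + ev e)) h2
    rw [MvPolynomial.coeff_sum, MvPolynomial.coeff_zero, Finset.sum_eq_single e] at h5
    · rw [MvPolynomial.coeff_mul_monomial, mul_one, ← MvPolynomial.map_frobenius_expand,
        MvPolynomial.coeff_map, MvPolynomial.coeff_expand_smul _ hp.ne_zero, frobenius_def,
        pow_eq_zero_iff hp.ne_zero] at h5
      rw [h5, MvPolynomial.coeff_zero]
    · intro e' _ hne
      rw [MvPolynomial.coeff_mul_monomial']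
      split_ifs with hle
      · obtain ⟨i, hi⟩ := Function.ne_iff.1 hne
        rw [mul_one, ← MvPolynomial.map_frobenius_expand, MvPolynomial.coeff_map,
          MvPolynomial.coeff_expand_of_not_dvd (i := i) _ fun hdvd => hi (Fin.ext ?_), map_zero]
        have h6 := hle i
        simp only [Finsupp.tsub_apply, Finsupp.add_apply, Finsupp.smul_apply, smul_eq_mul, hev] at hdvd h6
        have h7 : ((e' i : ℕ) : ℕ) ≡ p * u i + (e i : ℕ) [MOD p] := (Nat.modEq_iff_dvd' h6).2 hdvd
        have h8 : (e' i : ℕ) % p = (e i : ℕ) % p := by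
          rw [h7, Nat.mul_add_mod]
        rwa [Nat.mod_eq_of_lt (e' i).2, Nat.mod_eq_of_lt (e i).2] at h8
      · rfl
    · exact fun h' => (h' (Finset.mem_univ e)).elim
  simpa using h1

end Groth.Agent.AVPRank22
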