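import Groth.Agent.Lib.AVPRank22.Kernel
import Groth.Agent.Lib.TateTors22.TorsStruct
import Groth.Agent.Lib.DimF18.Prod
import Mathlib.Algebra.Module.ZMod
import Mathlib.GroupTheory.PGroup

/-!
# The `p`-rank, and torsion of arbitrary order
-/

universe u

open CategoryTheory Limits AlgebraicGeometry MonoidalCategory CartesianMonoidalCategory MonObj
open scoped GrpObj

set_option linter.style.haveILetI false
set_option backward.isDefEq.respectTransparency false

namespace Groth.Agent.AVPRank22

section Group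

variable {M : Type*} [CommGroup M]

/-- The elements killed by `n`. -/
abbrev tor (M : Type*) [CommGroup M] (n : ℕ) : Subgroup M := (powMonoidHom n : M →* M).ker

theorem mem_T {n : ℕ} {x : M} : x ∈ (tor M (n)) ↔ x ^ n = 1 := Iff.rfl

theorem card_ker_coprime {a b : ℕ} (hab : a.Coprime b) :
    Nat.card (tor M (a * b)) = Nat.card (tor M (a)) * Nat.card (tor M (b)) := by
  rw [← Nat.card_prod]
  refine (Nat.card_eq_of_bijective (fun z : (tor M (a)) × (tor M (b)) => (⟨z.1.1 * z.2.1, ?_⟩ : (tor M (a * b)))) ⟨?_, ?_⟩).symm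
  · rw [mem_T, mul_pow, pow_mul, mem_T.1 z.1.2, one_pow, mul_comm a b, pow_mul, mem_T.1 z.2.2, one_pow, _root_.one_mul]
  · rintro ⟨⟨x, hx⟩, ⟨y, hy⟩⟩ ⟨⟨x', hx'⟩, ⟨y', hy'⟩⟩ h
    have h1 : x * y = x' * y' := congrArg Subtype.val h
    have hxa : (x / x') ^ a = 1 := by rw [div_pow, mem_T.1 hx, mem_T.1 hx', div_self']
    have hxb : (x / x') ^ b = 1 := by
      rw [show x / x' = y' / y by rw [div_eq_div_iff_mul_eq_mul, h1, mul_comm x'], div_pow, mem_T.1 hy,
        mem_T.1 hy', div_self']
    have h2 : x / x' = 1 := by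
      rw [← pow_one (x / x'), ← Nat.coprime_iff_gcd_eq_one.1 hab, pow_gcd_eq_one]
      exact ⟨hxa, hxb⟩
    obtain rfl := div_eq_one.1 h2
    obtain rfl := mul_left_cancel h1
    rfl
  · rintro ⟨x, hx⟩
    obtain ⟨u, hua, hub⟩ := Nat.chineseRemainder hab 1 0
    obtain ⟨v, hva, hvb⟩ := Nat.chineseRemainder hab 0 1
    obtain ⟨w, rfl⟩ := Nat.modEq_zero_iff_dvd.1 hub
    obtain ⟨w', rfl⟩ := Nat.modEq_zero_iff_dvd.1 hva
    refine ⟨(⟨x ^ (b * w), ?_⟩, ⟨x ^ (a * w'), ?_⟩), Subtype.ext ?_⟩
    · rw [mem_T, ← pow_mul, show b * w * a = a * b * w by ring, pow_mul, mem_T.1 hx, one_pow]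
    · rw [mem_T, ← pow_mul, show a * w' * b = a * b * w' by ring, pow_mul, mem_T.1 hx, one_pow]
    show x ^ (b * w) * x ^ (a * w') = x
    have h1 : b * w + a * w' ≡ 1 [MOD a * b] :=
      (Nat.modEq_and_modEq_iff_modEq_mul hab).1 ⟨by simpa using hua.add hva, by simpa using hub.add hvb⟩
    rw [← pow_add, pow_eq_pow_mod (b * w + a * w') (mem_T.1 hx),
      show (b * w + a * w') % (a * b) = 1 % (a * b) from h1, ← pow_eq_pow_mod 1 (mem_T.1 hx), pow_one]

variable {p : ℕ} [Fact p.Prime]

theorem card_ker_pow_succ (hdiv : ∀ a : M, ∃ b, b ^ p = a) (m : ℕ) :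
    Nat.card (tor M (p ^ (m + 1))) = Nat.card (tor M (p ^ m)) * Nat.card (tor M (p)) := by
  let φ : (tor M (p ^ (m + 1))) →* (tor M (p ^ m)) :=
    { toFun := fun x => ⟨x.1 ^ p, by rw [mem_T, ← pow_mul, ← pow_succ']; exact x.2⟩
      map_one' := Subtype.ext (one_pow p)
      map_mul' := fun x y => Subtype.ext (mul_pow x.1 y.1 p) }
  have hsurj : Function.Surjective φ := fun y => by
    obtain ⟨x, hx⟩ := hdiv y.1
    exact ⟨⟨x, by rw [mem_T, pow_succ', pow_mul, hx]; exact y.2⟩, Subtype.ext hx⟩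
  have he : φ.ker ≃ (tor M (p)) :=
    { toFun := fun x => ⟨x.1.1, congrArg Subtype.val x.2⟩
      invFun := fun x => ⟨⟨x.1, by rw [mem_T, pow_succ', pow_mul, mem_T.1 x.2, one_pow]⟩, Subtype.ext x.2⟩
      left_inv := fun x => rfl
      right_inv := fun x => rfl }
  rw [Subgroup.card_eq_card_quotient_mul_card_subgroup φ.ker,
    Nat.card_congr (QuotientGroup.quotientKerEquivOfSurjective φ hsurj).toEquiv, Nat.card_congr he]

theorem card_ker_pow (hdiv : ∀ a : M, ∃ b, b ^ p = a) {i : ℕ} (hi : Nat.card (tor M (p)) = p ^ i) (m : ℕ) :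
    Nat.card (tor M (p ^ m)) = p ^ (i * m) := by
  induction m with
  | zero =>
    rw [Nat.mul_zero, pow_zero]
    exact Nat.card_eq_one_iff_unique.2 ⟨⟨fun a b => Subtype.ext ((pow_one a.1).symm.trans (a.2.trans
      (b.2.symm.trans (pow_one b.1))))⟩, ⟨1⟩⟩
  | succ m ih => rw [card_ker_pow_succ hdiv, ih, hi, ← pow_add]; rfl

/-- A finite vector space over `ZMod p`. -/
theorem exists_basis_card (V : Type*) [AddCommGroup V] [Module (ZMod p) V] [Finite V] :
    ∃ (i : ℕ) (b : Fin i → V), Nat.card V = p ^ i ∧ ∀ v : V, ∃ c : Fin i → ℕ, v = ∑ j, c j • b j := by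
  let b := Module.finBasis (ZMod p) V
  refine ⟨_, b, ?_, fun v => ⟨fun j => (b.repr v j).val, ?_⟩⟩
  · rw [Module.natCard_eq_pow_finrank (K := ZMod p), Nat.card_zmod]
  · conv_lhs => rw [← b.sum_repr v]
    refine Finset.sum_congr rfl fun j _ => ?_
    rw [← Nat.cast_smul_eq_nsmul (ZMod p), ZMod.natCast_zmod_val]

/-- A finite group killed by `p` is generated by as many elements as the exponent of its order. -/
theorem exists_gen_prime [Finite (tor M (p))] :
    ∃ i : ℕ, Nat.card (tor M (p)) = p ^ i ∧ TateTors22.Gen M i p := by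
  classical
  have hkill : ∀ x : Additive (tor M (p)), p • x = 0 := fun x => by
    show Additive.ofMul (x.toMul ^ p) = 0
    rw [show x.toMul ^ p = 1 from Subtype.ext x.toMul.2]
    rfl
  obtain ⟨i, b, hcard, hb⟩ := @exists_basis_card p _ (Additive (tor M (p))) _ (AddCommGroup.zmodModule hkill)
    (inferInstanceAs (Finite (tor M (p))))
  refine ⟨i, hcard, fun j => (b j).toMul.1, fun j => (b j).toMul.2, fun x hx => ?_⟩
  obtain ⟨c, hc⟩ := hb (Additive.ofMul ⟨x, hx⟩)
  refine ⟨c, ?_⟩
  have h1 := congrArg (fun y : Additive (tor M (p)) => (y.toMul : M)) hc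
  refine h1.trans ?_
  rw [toMul_sum, Subgroup.val_finsetProd]
  rfl

theorem gen_pow (hdiv : ∀ a : M, ∃ b, b ^ p = a) {i : ℕ} (hi : TateTors22.Gen M i p) :
    ∀ m, TateTors22.Gen M i (p ^ m) := by
  obtain ⟨b, hb, hgen⟩ := hi
  have key : ∀ m, ∃ h : Fin i → M, (∀ j, h j ^ p ^ m = b j) ∧
      ∀ x : M, x ^ p ^ (m + 1) = 1 → ∃ c : Fin i → ℕ, x = ∏ j, h j ^ c j := by
    intro m
    induction m with
    | zero => exact ⟨b, fun j => by rw [pow_zero, pow_one], fun x hx => hgen x (by rwa [zero_add, pow_one] at hx)⟩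
    | succ m ih =>
      obtain ⟨h, hh, hg⟩ := ih
      choose h' hh' using fun j => hdiv (h j)
      refine ⟨h', fun j => by rw [pow_succ', pow_mul, hh', hh], fun x hx => ?_⟩
      obtain ⟨c, hc⟩ := hg (x ^ p) (by rw [← pow_mul, ← pow_succ']; exact hx)
      obtain ⟨d, hd⟩ := hgen (x / ∏ j, h' j ^ c j) (by
        rw [div_pow, hc, ← Finset.prod_pow]
        refine div_eq_one.2 (Finset.prod_congr rfl fun j _ => ?_)
        rw [← pow_mul, mul_comm, pow_mul, hh'])
      refine ⟨fun j => c j + p ^ (m + 1) * d j, ?_⟩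
      rw [div_eq_iff_eq_mul] at hd
      rw [hd, ← Finset.prod_mul_distrib]
      refine Finset.prod_congr rfl fun j _ => ?_
      rw [pow_add, pow_mul, pow_succ', pow_mul, hh', hh, mul_comm]
  rintro ⟨_ | m⟩
  · rw [pow_zero]; exact TateTors22.gen_one
  · obtain ⟨h, hh, hg⟩ := key _
    exact ⟨h, fun j => by rw [pow_succ, pow_mul, hh, hb], hg⟩

end Group

variable {k : Type u} [Field k] {A : Over (Spec (CommRingCat.of k))}
  [GrpObj A] [IsCommMonObj A] [IsProper A.hom] [GeometricallyIntegral A.hom]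

omit [GrpObj A] [IsCommMonObj A] in
/-- The dimension does not change under extensions of the base field. -/
theorem dim_baseChange (K : Type u) [Field K] [Algebra k K] :
    topologicalKrullDim ((Over.pullback (Spec.map (CommRingCat.ofHom (algebraMap k K)))).obj A).left =
      topologicalKrullDim A.left := by
  let s := Spec.map (CommRingCat.ofHom (algebraMap k K))
  haveI : IsIntegral A.left := GeometricallyIntegral.isIntegral_of_subsingleton A.hom
  haveI : GeometricallyIntegral (pullback.snd A.hom s) := inferInstance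
  haveI : IsIntegral (pullback A.hom s) := GeometricallyIntegral.isIntegral_of_subsingleton (pullback.snd A.hom s)
  have hT : (Set.univ : Set ↥(pullback A.hom s)) ∈ irreducibleComponents ↥(pullback A.hom s) :=
    ⟨IrreducibleSpace.isIrreducible_univ _, fun t _ _ => Set.subset_univ t⟩
  obtain ⟨Z, hZ, e⟩ := DimF18.exists_component_dim_bc (IsPullback.of_hasPullback A.hom s) hT
  have hZu : Z = Set.univ :=
    Set.Subset.antisymm (Set.subset_univ _) (hZ.2 (IrreducibleSpace.isIrreducible_univ _) (Set.subset_univ _))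
  subst hZu
  rw [← IsHomeomorph.topologicalKrullDim_eq _ (Homeomorph.Set.univ ↥A.left).isHomeomorph, ← e]
  exact (IsHomeomorph.topologicalKrullDim_eq _ (Homeomorph.Set.univ ↥(pullback A.hom s)).isHomeomorph).symm

/-- Multiplication is surjective on geometric points. -/
theorem exists_pow_eq [IsAlgClosed k] {n : ℕ} (hn : 0 < n) (a : 𝟙_ (Over (Spec (CommRingCat.of k))) ⟶ A) :
    ∃ b : 𝟙_ (Over (Spec (CommRingCat.of k))) ⟶ A, b ^ n = a := by
  obtain ⟨h1, -, h3⟩ := AVDegree22.isFinite_flat_surjective_pow A hn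
  haveI := h1
  haveI := h3
  let P := pullback a.left (𝟙 A ^ n).left
  let q : P ⟶ Spec (CommRingCat.of k) := pullback.fst a.left (𝟙 A ^ n).left
  haveI : IsFinite q := MorphismProperty.pullback_fst _ _ h1
  haveI : Surjective q := MorphismProperty.pullback_fst _ _ h3
  haveI : Nonempty P := ⟨(q.surjective (IsLocalRing.closedPoint k)).choose⟩
  haveI : JacobsonSpace P := LocallyOfFiniteType.jacobsonSpace (Y := Spec _) q
  obtain ⟨z, hz⟩ : (closedPoints P).Nonempty := by
    rw [← Set.univ_inter (closedPoints P)]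
    exact nonempty_inter_closedPoints Set.univ_nonempty isClosed_univ.isLocallyClosed
  let z' : Spec (CommRingCat.of k) ⟶ P := pointOfClosedPoint q z hz
  have hz' : z' ≫ q = 𝟙 _ := pointOfClosedPoint_comp q z hz
  refine ⟨Over.homMk (z' ≫ pullback.snd a.left (𝟙 A ^ n).left) ?_, ?_⟩
  · rw [Category.assoc, show pullback.snd a.left (𝟙 A ^ n).left ≫ A.hom = q ≫ a.left ≫ A.hom by
      show _ = pullback.fst a.left (𝟙 A ^ n).left ≫ a.left ≫ A.hom
      rw [pullback.condition_assoc, Over.w], ← Category.assoc, hz']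
    exact (Category.id_comp _).trans (Over.w a)
  · rw [← TateTors22.comp_pow_id]
    ext1
    show (z' ≫ pullback.snd a.left (𝟙 A ^ n).left) ≫ (𝟙 A ^ n).left = a.left
    rw [Category.assoc, ← pullback.condition, ← Category.assoc, hz']
    exact Category.id_comp _

/-- Finitely many points are killed by the characteristic; at most `p ^ g`. -/
theorem finite_and_card_le [IsAlgClosed k] {p : ℕ} [Fact p.Prime] [CharP k p] {g : ℕ}
    (hg : topologicalKrullDim A.left = g) :
    Finite (AbDual.torsPts A p (𝟙_ (Over (Spec (CommRingCat.of k))))) ∧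
      Nat.card (AbDual.torsPts A p (𝟙_ (Over (Spec (CommRingCat.of k))))) ≤ p ^ g := by
  haveI : IsIntegral A.left := GeometricallyIntegral.isIntegral_of_subsingleton A.hom
  refine ⟨?_, card_le hg⟩
  obtain ⟨h1, -, -⟩ := AVDegree22.isFinite_flat_surjective_pow A (Fact.out : p.Prime).pos
  haveI := h1
  let Z : Over (Spec (CommRingCat.of k)) := Over.mk (pullback.snd (𝟙 A ^ p).left η[A].left)
  haveI : IsFinite Z.hom := MorphismProperty.pullback_snd _ _ h1
  haveI := TateTors22.finite_points k Z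
  let f : AbDual.torsPts A p (𝟙_ (Over (Spec (CommRingCat.of k)))) → (SGA7.pt (K := k) k ⟶ Z) := fun x =>
    Over.homMk (pullback.lift x.1.left (𝟙 _) (by
      have h := congrArg (fun a : 𝟙_ (Over (Spec (CommRingCat.of k))) ⟶ A => a.left)
        ((TateTors22.comp_pow_id x.1 p).trans x.2)
      simp only [Over.comp_left] at h
      rw [h, Hom.one_def, Over.comp_left]
      rfl)) ((pullback.lift_snd _ _ _).trans (by
        show 𝟙 _ = Spec.map (CommRingCat.ofHom (algebraMap k k))
        rw [Algebra.algebraMap_self]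
        exact (Spec.map_id _).symm))
  refine Finite.of_injective f fun x y h => Subtype.ext ?_
  ext1
  have h' := congrArg (fun q : SGA7.pt (K := k) k ⟶ Z => q.left ≫ pullback.fst (𝟙 A ^ p).left η[A].left) h
  exact (pullback.lift_fst _ _ _).symm.trans (h'.trans (pullback.lift_fst _ _ _))

/-- The `p`-rank. -/
theorem exists_pRank [IsAlgClosed k] (p : ℕ) [Fact p.Prime] [CharP k p] {g : ℕ}
    (hg : topologicalKrullDim A.left = g) :
    ∃ i : ℕ, i ≤ g ∧ ∀ m : ℕ,
      Nat.card (AbDual.torsPts A (p ^ m) (𝟙_ (Over (Spec (CommRingCat.of k))))) = p ^ (i * m) ∧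
      Nonempty (AbDual.torsPts A (p ^ m) (𝟙_ (Over (Spec (CommRingCat.of k)))) ≃*
        Multiplicative (Fin i → ZMod (p ^ m))) := by
  obtain ⟨hfin, hle⟩ := finite_and_card_le (A := A) (p := p) hg
  haveI : Finite (powMonoidHom p : (𝟙_ (Over (Spec (CommRingCat.of k))) ⟶ A) →* _).ker := hfin
  obtain ⟨i, hi, hgen⟩ := exists_gen_prime (M := 𝟙_ (Over (Spec (CommRingCat.of k))) ⟶ A) (p := p)
  have hdiv := exists_pow_eq (A := A) (Fact.out : p.Prime).pos
  refine ⟨i, (Nat.pow_le_pow_iff_right (Fact.out : p.Prime).one_lt).1 (le_of_eq_of_le hi.symm hle), fun m =>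
    ⟨card_ker_pow hdiv hi m, ?_⟩⟩
  exact TateTors22.nonempty_mulEquiv (pow_pos (Fact.out : p.Prime).pos m) (gen_pow hdiv hgen m)
    ((card_ker_pow hdiv hi m).trans (pow_mul p i m |>.trans (by rw [← pow_mul, mul_comm, pow_mul])))

/-- The number of rational torsion points of arbitrary order. -/
theorem card_torsPts_arbitrary [IsAlgClosed k] {g : ℕ} (hg : topologicalKrullDim A.left = g) (hg0 : 0 < g) (n : ℕ) :
    0 < n → Nat.card (AbDual.torsPts A n (𝟙_ (Over (Spec (CommRingCat.of k))))) ∣ n ^ (2 * g) ∧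
      (Nat.card (AbDual.torsPts A n (𝟙_ (Over (Spec (CommRingCat.of k))))) = n ^ (2 * g) ↔ (n : k) ≠ 0) := by
  haveI : IsIntegral A.left := GeometricallyIntegral.isIntegral_of_subsingleton A.hom
  induction n using Nat.recOnPosPrimePosCoprime with
  | zero => exact fun h => (lt_irrefl 0 h).elim
  | one =>
    intro _
    have h1 : Nat.card (AbDual.torsPts A 1 (𝟙_ (Over (Spec (CommRingCat.of k))))) = 1 ^ (2 * g) := by
      rw [one_pow]
      exact Nat.card_eq_one_iff_unique.2 ⟨⟨fun a b => Subtype.ext ((pow_one a.1).symm.trans (a.2.trans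
        (b.2.symm.trans (pow_one b.1))))⟩, ⟨1⟩⟩
    exact ⟨h1 ▸ dvd_rfl, iff_of_true h1 (by rw [Nat.cast_one]; exact one_ne_zero)⟩
  | prime_pow q e hq he =>
    intro _
    haveI : Fact q.Prime := ⟨hq⟩
    by_cases h : (q : k) = 0
    · obtain ⟨c, hc⟩ := CharP.exists k
      haveI : CharP k q := by
        rcases CharP.char_is_prime_or_zero k c with hcp | rfl
        · rwa [(Nat.prime_dvd_prime_iff_eq hcp hq).1 ((CharP.cast_eq_zero_iff k c q).1 h)] at hc
        · exact absurd (zero_dvd_iff.1 ((CharP.cast_eq_zero_iff k 0 q).1 h)) hq.ne_zero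
      obtain ⟨i, hi, hcard⟩ := exists_pRank (A := A) q hg
      rw [(hcard e).1, ← pow_mul]
      refine ⟨pow_dvd_pow q (by nlinarith), iff_of_false (fun heq => ?_) (by rw [Nat.cast_pow, h, zero_pow he.ne']; simp)⟩
      have := Nat.pow_right_injective hq.two_le heq
      nlinarith
    · have h1 := AVDegree22.card_torsPts A hg (N := q ^ e) (by rw [Nat.cast_pow]; exact pow_ne_zero _ h)
      have h1' : Nat.card (AbDual.torsPts A (q ^ e) (𝟙_ (Over (Spec (CommRingCat.of k))))) = (q ^ e) ^ (2 * g) := h1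
      exact ⟨h1' ▸ dvd_rfl, iff_of_true h1' (by rw [Nat.cast_pow]; exact pow_ne_zero _ h)⟩
  | coprime a b ha hb hab iha ihb =>
    intro _
    obtain ⟨hda, hea⟩ := iha (by omega)
    obtain ⟨hdb, heb⟩ := ihb (by omega)
    have hc : Nat.card (AbDual.torsPts A (a * b) (𝟙_ (Over (Spec (CommRingCat.of k))))) =
        Nat.card (AbDual.torsPts A a (𝟙_ (Over (Spec (CommRingCat.of k))))) *
          Nat.card (AbDual.torsPts A b (𝟙_ (Over (Spec (CommRingCat.of k))))) := card_ker_coprime hab
    rw [hc, _root_.mul_pow, Nat.cast_mul, mul_ne_zero_iff, ← hea, ← heb]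
    refine ⟨mul_dvd_mul hda hdb, fun h => ?_, fun h => by rw [h.1, h.2]⟩
    have h1 := Nat.le_of_dvd (pow_pos (by omega) _) hda
    have h2 := Nat.le_of_dvd (pow_pos (by omega) _) hdb
    have h3 : 0 < b ^ (2 * g) := pow_pos (by omega) _
    have h4 : 0 < a ^ (2 * g) := pow_pos (by omega) _
    refine ⟨le_antisymm h1 (Nat.le_of_mul_le_mul_right (h ▸ Nat.mul_le_mul_left _ h2) h3),
      le_antisymm h2 (Nat.le_of_mul_le_mul_left (h ▸ Nat.mul_le_mul_right _ h1) h4)⟩

/-- At most `p ^ g` points with values in an algebraically closed extension are killed by `p`. -/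
theorem card_le_ext (K : Type u) [Field K] [Algebra k K] [IsAlgClosed K] {p : ℕ} [Fact p.Prime] [CharP k p] {g : ℕ}
    (hg : topologicalKrullDim A.left = g) :
    Finite (AbDual.torsPts A p (SGA7.pt (K := k) K)) ∧
      Nat.card (AbDual.torsPts A p (SGA7.pt (K := k) K)) ≤ p ^ g := by
  let s := Spec.map (CommRingCat.ofHom (algebraMap k K))
  let F := Over.pullback s
  letI : GrpObj (F.obj A) := Functor.grpObjObj
  haveI : IsProper (F.obj A).hom := inferInstanceAs (IsProper (pullback.snd A.hom s))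
  haveI : GeometricallyIntegral (F.obj A).hom := inferInstanceAs (GeometricallyIntegral (pullback.snd A.hom s))
  haveI : IsCommMonObj (F.obj A) := isCommMonObj_of_isProper_of_geometricallyIntegral _
  haveI : CharP K p := charP_of_injective_ringHom (algebraMap k K).injective p
  obtain ⟨hfin, hle⟩ := finite_and_card_le (A := F.obj A) (p := p) ((dim_baseChange K).trans hg)
  let δ : 𝟙_ (Over (Spec (CommRingCat.of K))) ⟶ F.obj (SGA7.pt (K := k) K) :=
    Over.homMk (pullback.lift (𝟙 _) (𝟙 _) rfl) (pullback.lift_snd _ _ _)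
  let Φ : AbDual.torsPts A p (SGA7.pt (K := k) K) → AbDual.torsPts (F.obj A) p (𝟙_ (Over (Spec (CommRingCat.of K)))) :=
    fun x => ⟨δ ≫ F.map x.1, (AbDual.mem_torsPts _ _).2 (by
      rw [← MonObj.comp_pow, ← TateTors22.map_mul_pow, (AbDual.mem_torsPts _ _).1 x.2, F.map_one, MonObj.comp_one])⟩
  have hinj : Function.Injective Φ := fun x y h => by
    have h1 := congrArg (fun q => q.1.left ≫ pullback.fst A.hom s) h
    simp only [Φ, δ, F, Over.comp_left, Over.pullback_map_left, Over.homMk_left, Category.assoc,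
      pullback.lift_fst, pullback.lift_fst_assoc, Category.id_comp] at h1
    exact Subtype.ext (Over.OverMorphism.ext h1)
  exact ⟨Finite.of_injective Φ hinj, (Nat.card_le_card_of_injective Φ hinj).trans hle⟩

/-- The points over the identity under multiplication by `p` number at most `p ^ g`. -/
theorem encard_fibre_le {p : ℕ} [Fact p.Prime] [CharP k p] {g : ℕ} (hg : topologicalKrullDim A.left = g) :
    Set.encard {a : A.left | (𝟙 A ^ p).left a = η[A].left (IsLocalRing.closedPoint k)} ≤ (p ^ g : ℕ) := by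
  classical
  let K := AlgebraicClosure k
  obtain ⟨hfin, hle⟩ := card_le_ext (A := A) K (p := p) hg
  haveI := hfin
  obtain ⟨h1, -, -⟩ := AVDegree22.isFinite_flat_surjective_pow A (Fact.out : p.Prime).pos
  haveI := h1
  let ev : AbDual.torsPts A p (SGA7.pt (K := k) K) → A.left := fun x => x.1.left (IsLocalRing.closedPoint K)
  refine le_trans (Set.encard_le_encard (t := Set.range ev) fun a ha => ?_) ?_
  · let s := Spec.map (CommRingCat.ofHom (algebraMap k K))
    let fa : pullback (𝟙 A ^ p).left η[A].left ⟶ Spec (CommRingCat.of k) := pullback.snd _ _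
    haveI : IsFinite fa := MorphismProperty.pullback_snd _ _ h1
    obtain ⟨z, hz, -⟩ := Scheme.Pullback.exists_preimage_pullback (f := (𝟙 A ^ p).left) (g := η[A].left) a
      (show ↥(𝟙_ (Over (Spec (CommRingCat.of k)))).left from IsLocalRing.closedPoint k) ha
    let W := pullback fa s
    let w : W ⟶ Spec (CommRingCat.of K) := pullback.snd _ _
    haveI : IsFinite w := MorphismProperty.pullback_snd _ _ ‹IsFinite fa›
    haveI : JacobsonSpace W := LocallyOfFiniteType.jacobsonSpace (Y := Spec _) w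
    haveI : Finite W := by
      refine Set.finite_univ_iff.1 ((IsFinite.finite_preimage_singleton w (IsLocalRing.closedPoint K)).subset
        fun y _ => ?_)
      exact Subsingleton.elim (α := Spec (CommRingCat.of K)) _ _
    obtain ⟨v, hvz, -⟩ := Scheme.Pullback.exists_preimage_pullback (f := fa) (g := s) z
      (IsLocalRing.closedPoint K) (Subsingleton.elim (α := Spec (CommRingCat.of k)) _ _)
    haveI : DiscreteTopology W := inferInstance
    have hv : IsClosed ({v} : Set W) := isClosed_discrete _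
    let v' : Spec (CommRingCat.of K) ⟶ pullback (𝟙 A ^ p).left η[A].left :=
      pointOfClosedPoint w v hv ≫ pullback.fst _ _
    have hv' : v' ≫ fa = s := by
      show (_ ≫ pullback.fst _ _) ≫ fa = s
      rw [Category.assoc, pullback.condition, ← Category.assoc, pointOfClosedPoint_comp, Category.id_comp]
    let x : SGA7.pt (K := k) K ⟶ A := Over.homMk (v' ≫ pullback.fst _ _) (by
      rw [Category.assoc, show pullback.fst (𝟙 A ^ p).left η[A].left ≫ A.hom = fa from ?_]
      · exact hv'
      · rw [← Over.w (𝟙 A ^ p), pullback.condition_assoc, Over.w η[A]]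
        exact Category.comp_id _)
    refine ⟨⟨x, (AbDual.mem_torsPts _ _).2 ?_⟩, ?_⟩
    · rw [← TateTors22.comp_pow_id, Hom.one_def]
      ext1
      show (v' ≫ pullback.fst _ _) ≫ (𝟙 A ^ p).left = _
      rw [Category.assoc, pullback.condition, ← Category.assoc, hv', Over.comp_left]
      rfl
    · show (v' ≫ pullback.fst _ _) (IsLocalRing.closedPoint K) = a
      rw [Scheme.Hom.comp_apply, Scheme.Hom.comp_apply, pointOfClosedPoint_apply, hvz, hz]
  · rw [← Set.image_univ]
    refine (Set.encard_image_le _ _).trans ?_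
    rw [Set.encard_univ, ENat.card_eq_coe_natCard]
    exact_mod_cast hle

end Groth.Agent.AVPRank22
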