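import Mathlib.GroupTheory.Index
import Mathlib.GroupTheory.OrderOfElement
import Mathlib.Data.Nat.Factorization.Basic

/-!
# Torsion rank is invariant under surjections with finite kernel
-/

namespace Groth.Agent.AVPRank22

variable {G H : Type*} [CommGroup G] [CommGroup H] {p : ℕ} [Fact p.Prime] {i j : ℕ}

theorem le_of_pow_bound {p a b c : ℕ} (hp : 1 < p) (h : ∀ m, p ^ (m * a) ≤ p ^ (c + m * b)) : a ≤ b := by
  have h1 := (Nat.pow_le_pow_iff_right hp).1 (h (c + 1))
  by_contra h2
  have : (c + 1) * (b + 1) ≤ (c + 1) * a := Nat.mul_le_mul_left _ (by omega)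
  rw [Nat.mul_add, Nat.mul_one] at this
  omega

/-- Torsion rank is invariant under surjections with finite kernel. -/
theorem eq_of_surjective_finite_ker (f : G →* H) (hf : Function.Surjective f) [Finite f.ker]
    (hG : ∀ m, Nat.card (powMonoidHom (p ^ m) : G →* G).ker = p ^ (m * i))
    (hH : ∀ m, Nat.card (powMonoidHom (p ^ m) : H →* H).ker = p ^ (m * j)) : i = j := by
  have hp : p.Prime := Fact.out
  have hfinG : ∀ m, Finite (powMonoidHom (p ^ m) : G →* G).ker := fun m =>
    Nat.finite_of_card_ne_zero (by rw [hG]; exact pow_ne_zero _ hp.ne_zero)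
  have hfinH : ∀ m, Finite (powMonoidHom (p ^ m) : H →* H).ker := fun m =>
    Nat.finite_of_card_ne_zero (by rw [hH]; exact pow_ne_zero _ hp.ne_zero)
  let e := Nat.card f.ker
  have he : e ≠ 0 := Nat.card_ne_zero.2 ⟨⟨1⟩, inferInstance⟩
  let r : ∀ m, (powMonoidHom (p ^ m) : G →* G).ker →* (powMonoidHom (p ^ m) : H →* H).ker := fun m =>
    (f.comp (powMonoidHom (p ^ m) : G →* G).ker.subtype).codRestrict _ fun x => by
      show f x.1 ^ (p ^ m) = 1
      rw [← map_pow, show (x.1 : G) ^ p ^ m = 1 from x.2, map_one]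
  refine le_antisymm (le_of_pow_bound (c := e) hp.one_lt fun m => ?_)
    (le_of_pow_bound (c := e.factorization p * j) hp.one_lt fun m => ?_)
  · have := hfinG m
    have := hfinH m
    rw [← hG, ← (r m).ker.card_mul_index, Subgroup.index_ker, pow_add]
    refine Nat.mul_le_mul ?_ ((Nat.card_le_card_of_injective _ Subtype.val_injective).trans (hH m).le)
    refine le_trans (Nat.card_le_card_of_injective (fun x : (r m).ker => (⟨x.1.1, ?_⟩ : f.ker)) fun x y h => ?_)
      (Nat.lt_pow_self hp.one_lt).le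
    · exact congrArg Subtype.val x.2
    · exact Subtype.ext (Subtype.ext (congrArg Subtype.val h :))
  · have := hfinG m
    have := hfinH m
    let s := e.factorization p
    have := hfinH s
    let pe : (powMonoidHom (p ^ m) : H →* H).ker →* (powMonoidHom (p ^ m) : H →* H).ker := powMonoidHom e
    rw [← hH, ← pe.ker.card_mul_index, Subgroup.index_ker, pow_add, ← hH s]
    refine Nat.mul_le_mul ?_ (le_trans ?_ (le_of_eq (hG m)))
    · refine Nat.card_le_card_of_injective (fun y : pe.ker => (⟨y.1.1, ?_⟩ : (powMonoidHom (p ^ s) : H →* H).ker))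
        fun x y h => Subtype.ext (Subtype.ext (congrArg Subtype.val h :))
      show y.1.1 ^ p ^ s = 1
      have h1 : y.1.1 ^ e = 1 := congrArg Subtype.val (y.2 : pe y.1 = 1)
      have h2 : orderOf y.1.1 ∣ p ^ m := orderOf_dvd_of_pow_eq_one y.1.2
      obtain ⟨t, -, ht⟩ := (Nat.dvd_prime_pow hp).1 h2
      refine orderOf_dvd_iff_pow_eq_one.1 (ht ▸ pow_dvd_pow p ?_)
      exact (hp.pow_dvd_iff_le_factorization he).1 (ht ▸ orderOf_dvd_of_pow_eq_one h1)
    · refine le_trans (Nat.card_le_card_of_injective (fun y : pe.range => (⟨y.1, ?_⟩ : (r m).range))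
        fun x y h => Subtype.ext (congrArg Subtype.val h :)) ?_
      · obtain ⟨y₀, hy⟩ := y.2
        obtain ⟨x, hx⟩ := hf y₀.1
        have hx' : (x ^ p ^ m) ∈ f.ker := by
          rw [MonoidHom.mem_ker, map_pow, hx]
          exact y₀.2
        refine ⟨⟨x ^ e, ?_⟩, Subtype.ext ?_⟩
        · show (x ^ e) ^ p ^ m = 1
          rw [← pow_mul, mul_comm, pow_mul]
          exact congrArg Subtype.val (pow_card_eq_one' (x := (⟨_, hx'⟩ : f.ker)))
        · show f (x ^ e) = y.1.1
          rw [map_pow, hx, ← hy]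
          rfl
      · exact Nat.card_le_card_of_surjective (r m).rangeRestrict (r m).rangeRestrict_surjective

end Groth.Agent.AVPRank22
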